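import Groth.Agent.Lib.Euler.AmpleIff
import Groth.Agent.Lib.Ample.Functorial
import Groth.Agent.Lib.Chow.Prod
import Mathlib.AlgebraicGeometry.ZariskisMainTheorem
import Mathlib.AlgebraicGeometry.QuasiAffine
import Mathlib.AlgebraicGeometry.Morphisms.Finite

/-!
# Two sections separating the one-dimensional components give a quasi-finite pencil
-/

set_option linter.style.haveILetI false
set_option backward.isDefEq.respectTransparency false

universe u

open CategoryTheory CategoryTheory.Limits AlgebraicGeometry TopologicalSpace Opposite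
open GrothLib.Ample (Cocycle res)

noncomputable section

namespace GrothLib.CurveModel

/-- The preimage of an affine open under a separated quasi-finite morphism is quasi-affine. -/
theorem isQuasiAffine_preimage {X Y : Scheme.{u}} (f : X ⟶ Y) [LocallyQuasiFinite f]
    [LocallyOfFiniteType f] [IsSeparated f] [QuasiCompact f] {U : Y.Opens} (hU : IsAffineOpen U) :
    (f ⁻¹ᵁ U : Scheme.{u}).IsQuasiAffine := by
  haveI : IsAffine (f.fromNormalization ⁻¹ᵁ U : Scheme.{u}) := hU.preimage f.fromNormalization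
  have hle : f ⁻¹ᵁ U ≤ f.toNormalization ⁻¹ᵁ (f.fromNormalization ⁻¹ᵁ U) := by
    rw [← Scheme.Hom.comp_preimage, f.toNormalization_fromNormalization]
  haveI : CompactSpace (f ⁻¹ᵁ U : Scheme.{u}) :=
    isCompact_iff_compactSpace.mp (QuasiCompact.isCompact_preimage (f := f) U U.2 hU.isCompact)
  exact Scheme.IsQuasiAffine.of_isImmersion (f.toNormalization.resLE _ _ hle)

variable {X : Scheme.{u}} (k : Type u) [Field k] [X.Over (Spec (CommRingCat.of k))] [IsNoetherian X]
  [IsSeparated (X ↘ Spec (CommRingCat.of k))] [LocallyOfFiniteType (X ↘ Spec (CommRingCat.of k))]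

/-- A closed set all of whose points are closed is finite. -/
theorem finite_of_forall_isClosed {Y : Type*} [TopologicalSpace Y] [NoetherianSpace Y] [QuasiSober Y]
    {Z : Set Y} (hZ : IsClosed Z) (h : ∀ y ∈ Z, IsClosed ({y} : Set Y)) : Z.Finite := by
  obtain ⟨S, hS, hSirr, hScl, hcov⟩ := NoetherianSpace.exists_finite_set_isClosed_irreducible hZ
  choose η hη using fun C : S => QuasiSober.sober (hScl C C.2) (hSirr C C.2)
  haveI := hS.to_subtype
  refine (Set.finite_range η).subset fun y hy => ?_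
  obtain ⟨C, hC, hyC⟩ := (hcov ▸ hy : y ∈ ⋃₀ S)
  have hZη : η ⟨C, hC⟩ ∈ Z := hcov.ge (Set.mem_sUnion_of_mem (hη ⟨C, hC⟩).mem hC)
  exact ⟨⟨C, hC⟩, (Set.mem_singleton_iff.1 (((hη ⟨C, hC⟩).specializes hyC).mem_closed (h _ hZη) rfl)).symm⟩

include k in
/-- Two sections whose loci cover, the first containing every non-closed point and missing a specialisation of each of
them, have quasi-affine loci, affine ones if `X` is proper. -/
theorem loci_of_pencil (hd : topologicalKrullDim X ≤ 1) (c : Cocycle X) {m : ℕ} (s t : c.sect m ⊤)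
    (h : ∀ y : X, ¬ IsClosed ({y} : Set X) → y ∈ c.locus s ∧ ∃ x, y ⤳ x ∧ x ∉ c.locus s)
    (hcov : c.locus s ⊔ c.locus t = ⊤) :
    ((c.locus s : Scheme.{u}).IsQuasiAffine ∧ (c.locus t : Scheme.{u}).IsQuasiAffine) ∧
      (IsProper (X ↘ Spec (CommRingCat.of k)) → IsAffineOpen (c.locus s) ∧ IsAffineOpen (c.locus t)) := by
  let c' := c.pow m
  let σ : Fin 2 → ProjUP.Γm (c'.twist 1) := fun i =>
    c.toPow m (c.sectCast (mul_one m).symm (if i = 0 then s else t))
  have hloc : ∀ i, c'.locus (Ample.ProjMap.sec c' (Iso.refl _) σ i) = c.locus (if i = 0 then s else t) := by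
    intro i
    show c'.locus (c.toPow m (c.sectCast (mul_one m).symm (if i = 0 then s else t))) = _
    rw [c.locus_toPow, c.locus_sectCast]
  have hσ : ⨆ i, c'.locus (Ample.ProjMap.sec c' (Iso.refl _) σ i) = ⊤ := by
    rw [eq_top_iff, ← hcov]
    refine sup_le ?_ ?_
    · exact le_iSup_of_le 0 (by rw [hloc]; simp)
    · exact le_iSup_of_le 1 (by rw [hloc]; simp)
  let q := X ↘ Spec (CommRingCat.of k)
  let D := Ample.ProjMap.dataOfSections c' (Iso.refl _) σ hσ q
  let φ := D.map
  haveI := Chow.isProper_toSpec 1 k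
  have hφq : φ ≫ CohB1.ProjSpace.toSpec 1 k = q := D.map_toSpec
  haveI : IsSeparated (φ ≫ CohB1.ProjSpace.toSpec 1 k) := by rw [hφq]; infer_instance
  haveI : IsSeparated φ := IsSeparated.of_comp φ (CohB1.ProjSpace.toSpec 1 k)
  haveI : LocallyOfFiniteType (φ ≫ CohB1.ProjSpace.toSpec 1 k) := by rw [hφq]; infer_instance
  haveI : LocallyOfFiniteType φ := locallyOfFiniteType_of_comp φ (CohB1.ProjSpace.toSpec 1 k)
  haveI : JacobsonSpace (CohB1.ProjSpace 1 k) :=
    LocallyOfFiniteType.jacobsonSpace (CohB1.ProjSpace.toSpec 1 k)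
  have hU0 : D.U 0 = c.locus s := (hloc 0).trans (by simp)
  have hU1 : D.U 1 = c.locus t := (hloc 1).trans (by simp)
  have hpre : ∀ y, φ y ∈ Proj.basicOpen (CohB1.polyGrading 1 k) (MvPolynomial.X 0) ↔ y ∈ c.locus s := fun y => by
    rw [← hU0, ← D.map_preimage 0]
    rfl
  have hfib : ∀ z, (φ ⁻¹' {z}).Finite := by
    intro z
    by_cases hz : IsClosed ({z} : Set _)
    · refine finite_of_forall_isClosed (hz.preimage φ.continuous) fun y hy => ?_
      by_contra hyc
      obtain ⟨hys, x, hyx, hxs⟩ := h y hyc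
      have hxz : φ x = φ y := ((hyx.map φ.continuous).mem_closed (hz) hy).trans
        (Set.mem_singleton_iff.1 hy).symm
      exact hxs ((hpre x).1 (hxz ▸ (hpre y).2 hys))
    · refine (genericPoints.finite (α := (X : Type u)) NoetherianSpace.finite_irreducibleComponents).subset
        fun y hy => ?_
      by_contra hyg
      have hcl := φ.closePoints_subset_preimage_closedPoints
        (Euler.isClosed_singleton_of_notMem_genericPoints hd hyg : y ∈ closedPoints (X : Type u))
      exact hz ((Set.mem_singleton_iff.1 hy) ▸ hcl)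
  haveI : LocallyQuasiFinite φ := LocallyQuasiFinite.of_finite_preimage_singleton _ hfib
  have haff : ∀ i : Fin 2, IsAffineOpen (Proj.basicOpen (CohB1.polyGrading 1 k) (MvPolynomial.X i)) := fun i =>
    Proj.isAffineOpen_basicOpen (CohB1.polyGrading 1 k) _ (MvPolynomial.isHomogeneous_X k i) one_pos
  refine ⟨⟨?_, ?_⟩, fun hp => ?_⟩
  · rw [← hU0, ← D.map_preimage 0]
    exact isQuasiAffine_preimage φ (haff 0)
  · rw [← hU1, ← D.map_preimage 1]
    exact isQuasiAffine_preimage φ (haff 1)
  · haveI := hp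
    haveI : IsProper (φ ≫ CohB1.ProjSpace.toSpec 1 k) := by rw [hφq]; infer_instance
    haveI : IsProper φ := IsProper.of_comp φ (CohB1.ProjSpace.toSpec 1 k)
    haveI : IsFinite φ := IsFinite.of_isProper_of_locallyQuasiFinite φ
    haveI : @IsAffineHom X (Proj (CohB1.polyGrading 1 k)) φ := (inferInstance : IsFinite φ).toIsAffineHom
    exact ⟨by rw [← hU0, ← D.map_preimage 0]; exact (haff 0).preimage φ,
      by rw [← hU1, ← D.map_preimage 1]; exact (haff 1).preimage φ⟩

include k in
/-- Such a pencil makes the cocycle ample. -/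
theorem isAmp_of_pencil (hd : topologicalKrullDim X ≤ 1) (c : Cocycle X) {n : ℕ} (s t : c.sect (n + 1) ⊤)
    (h : ∀ y : X, ¬ IsClosed ({y} : Set X) → y ∈ c.locus s ∧ ∃ x, y ⤳ x ∧ x ∉ c.locus s)
    (hcov : c.locus s ⊔ c.locus t = ⊤) : c.IsAmp := by
  obtain ⟨⟨h1, h2⟩, -⟩ := loci_of_pencil k hd c s t h hcov
  refine c.isAmp_of_quasiAffine_loci fun p => ?_
  rcases (hcov ▸ Opens.mem_top p : p ∈ c.locus s ⊔ c.locus t) with hp | hp
  · exact ⟨n, s, hp, h1⟩
  · exact ⟨n, t, hp, h2⟩

include k in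
/-- If moreover `X` is proper, the loci are affine. -/
theorem isAffineOpen_of_pencil (hp : IsProper (X ↘ Spec (CommRingCat.of k))) (hd : topologicalKrullDim X ≤ 1)
    (c : Cocycle X) {m : ℕ} (s t : c.sect m ⊤)
    (h : ∀ y : X, ¬ IsClosed ({y} : Set X) → y ∈ c.locus s ∧ ∃ x, y ⤳ x ∧ x ∉ c.locus s)
    (hcov : c.locus s ⊔ c.locus t = ⊤) : IsAffineOpen (c.locus s) ∧ IsAffineOpen (c.locus t) :=
  (loci_of_pencil k hd c s t h hcov).2 hp

end GrothLib.CurveModel
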