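import Mathlib.AlgebraicGeometry.Morphisms.Separated
import Mathlib.AlgebraicGeometry.Morphisms.ClosedImmersion
import Mathlib.RingTheory.Localization.Integer
import Mathlib.RingTheory.IntegralClosure.IsIntegralClosure.Basic
import Mathlib.RingTheory.NoetherNormalization
import Groth.Agent.Lib.Dim.Ring

/-!
# Functions on an affine curve with a pole at every missing point

The algebra: if `K = A_f` and `1/f` is a polynomial in `g` over `A`, then a power of `1/g` lies in `A` near `f = 0`.
The geometry: on a separated scheme the functions on the intersection of two affines are generated by those on each.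
-/

set_option linter.style.haveILetI false

universe u

open CategoryTheory CategoryTheory.Limits AlgebraicGeometry Polynomial

noncomputable section

namespace GrothLib.CurveModel

section Algebra

variable {A K : Type*} [CommRing A] [CommRing K] [Algebra A K]

/-- An inverse which is integral over a subalgebra containing the element lies in the subalgebra. -/
theorem mem_of_isIntegral_inv (C : Subalgebra A K) {x y : K} (hy : y ∈ C) (hyx : y * x = 1)
    (hx : IsIntegral C x) : x ∈ C := by
  obtain ⟨p, hp, hpx⟩ := hx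
  obtain h0 | ⟨m, hm⟩ := Nat.eq_zero_or_eq_succ_pred p.natDegree |>.imp id fun h => (⟨_, h⟩ : ∃ m, p.natDegree = m + 1)
  · rw [Polynomial.Monic.natDegree_eq_zero hp |>.1 h0, eval₂_one] at hpx
    rw [show x = 0 by rw [← mul_one x, hpx, mul_zero]]
    exact zero_mem C
  · rw [hp.as_sum, hm, eval₂_add, eval₂_X_pow, eval₂_finset_sum] at hpx
    have hxe : x = x ^ (m + 1) * y ^ m := by
      rw [pow_succ', mul_assoc, ← mul_pow, mul_comm x y, hyx, one_pow, mul_one]
    rw [hxe, eq_neg_of_add_eq_zero_left hpx, neg_mul, Finset.sum_mul]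
    refine neg_mem (sum_mem fun i hi => ?_)
    have hi' : i ≤ m := by have := Finset.mem_range.1 hi; omega
    rw [eval₂_mul, eval₂_C, eval₂_X_pow, mul_assoc, ← Nat.add_sub_cancel' hi', pow_add, ← mul_assoc (x ^ i),
      ← mul_pow, mul_comm x y, hyx, one_pow, one_mul]
    exact mul_mem (p.coeff i).2 (pow_mem hy _)

/-- If `1/f` is a polynomial in `g` then a power of `g` is inverted near the zeros of `f` by a multiple of `f`. -/
theorem exists_pow_inverse (f : A) [IsLocalization.Away f K] (g x : K) (hfx : algebraMap A K f * x = 1)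
    (hx : x ∈ Algebra.adjoin A {g}) :
    ∃ (b₀ a : A) (e : ℕ), 0 < e ∧ g ^ e * algebraMap A K (f * a) = algebraMap A K ((1 - f * b₀) ^ e) := by
  classical
  rw [Algebra.adjoin_singleton_eq_range_aeval] at hx
  obtain ⟨P, hP⟩ := hx
  let b := algebraMap A K (1 - f * P.coeff 0)
  let Q := P.divX
  let d := Q.natDegree
  let h : K := algebraMap A K f * aeval g Q
  have hgh : g * h = b := by
    have e : aeval g P = g * aeval g Q + algebraMap A K (P.coeff 0) := by
      conv_lhs => rw [← P.X_mul_divX_add]
      rw [map_add, map_mul, aeval_X, aeval_C]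
    change aeval g P = x at hP
    show g * (algebraMap A K f * aeval g Q) = algebraMap A K (1 - f * P.coeff 0)
    rw [map_sub, map_one, map_mul, ← hfx, ← hP, e]
    ring
  let M : Submodule A K := Submodule.span A ((fun i => h ^ i) '' (Finset.range (d + 1) : Set ℕ))
  have hmem : ∀ i, i ≤ d → h ^ i ∈ M := fun i hi =>
    Submodule.subset_span ⟨i, Finset.mem_coe.2 (Finset.mem_range.2 (by omega)), rfl⟩
  have htop : ∃ m ∈ M, h ^ (d + 1) = algebraMap A K f * m := by
    refine ⟨aeval g Q * h ^ d, ?_, ?_⟩
    · rw [aeval_eq_sum_range, Finset.sum_mul]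
      refine sum_mem fun i hi => ?_
      have hi' : i ≤ d := by have := Finset.mem_range.1 hi; omega
      rw [smul_mul_assoc, ← Nat.add_sub_cancel' hi', pow_add, ← mul_assoc, ← mul_pow, hgh,
        show b ^ i * h ^ (d - i) = ((1 - f * P.coeff 0) ^ i) • h ^ (d - i) by rw [Algebra.smul_def, map_pow]]
      exact M.smul_mem _ (M.smul_mem _ (hmem _ (Nat.sub_le _ _)))
    · rw [pow_succ']
      show algebraMap A K f * aeval g Q * h ^ d = _
      rw [mul_assoc]
  have hstab : ∀ m ∈ M, h * m ∈ M := by
    intro m hm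
    induction hm using Submodule.span_induction with
    | mem y hy =>
      obtain ⟨i, hi, rfl⟩ := hy
      rw [← pow_succ']
      rcases Nat.lt_or_ge i d with hlt | hge
      · exact hmem _ hlt
      · obtain rfl : i = d := by have := Finset.mem_range.1 (Finset.mem_coe.1 hi); omega
        obtain ⟨m, hm, he⟩ := htop
        rw [he, ← Algebra.smul_def]
        exact M.smul_mem _ hm
    | zero => rw [mul_zero]; exact M.zero_mem
    | add y z _ _ hy hz => rw [mul_add]; exact M.add_mem hy hz
    | smul r y _ hy => rw [Algebra.mul_smul_comm]; exact M.smul_mem _ hy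
  have hpowstab : ∀ i, ∀ m ∈ M, h ^ i * m ∈ M := by
    intro i
    induction i with
    | zero => intro m hm; rwa [pow_zero, one_mul]
    | succ i ih => intro m hm; rw [pow_succ, mul_assoc]; exact ih _ (hstab m hm)
  have hdeep : ∀ j, ∀ m ∈ M, ∃ m' ∈ M, h ^ ((d + 1) * j) * m = algebraMap A K f ^ j * m' := by
    intro j
    induction j with
    | zero => intro m hm; exact ⟨m, hm, by simp⟩
    | succ j ih =>
      intro m hm
      obtain ⟨m', hm', he⟩ := ih m hm
      obtain ⟨m₁, hm₁, he₁⟩ := htop
      have hprod : m₁ * m' ∈ M := by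
        clear he₁
        induction hm₁ using Submodule.span_induction with
        | mem y hy => obtain ⟨i, -, rfl⟩ := hy; exact hpowstab i m' hm'
        | zero => rw [zero_mul]; exact M.zero_mem
        | add y z _ _ hy hz => rw [add_mul]; exact M.add_mem hy hz
        | smul r y _ hy => rw [smul_mul_assoc]; exact M.smul_mem _ hy
      refine ⟨_, hprod, ?_⟩
      rw [Nat.mul_succ, pow_add, mul_right_comm, he, he₁]
      ring
  obtain ⟨⟨_, N, rfl⟩, hN⟩ := IsLocalization.exist_integer_multiples_of_finset (Submonoid.powers f)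
    ((Finset.range (d + 1)).image fun i => h ^ i)
  have hclear : ∀ m ∈ M, ∃ a, algebraMap A K a = f ^ N • m := by
    intro m hm
    induction hm using Submodule.span_induction with
    | mem y hy =>
      obtain ⟨i, hi, rfl⟩ := hy
      exact hN _ (Finset.mem_image_of_mem _ (Finset.mem_coe.1 hi))
    | zero => exact ⟨0, by simp⟩
    | add y z _ _ hy hz =>
      obtain ⟨a, ha⟩ := hy
      obtain ⟨a', ha'⟩ := hz
      exact ⟨a + a', by rw [map_add, ha, ha', smul_add]⟩
    | smul r y _ hy =>
      obtain ⟨a, ha⟩ := hy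
      exact ⟨r * a, by rw [map_mul, ha, ← Algebra.smul_def, smul_comm]⟩
  obtain ⟨m', hm', he⟩ := hdeep (N + 1) (h ^ 0) (hmem 0 (Nat.zero_le _))
  obtain ⟨a, ha⟩ := hclear m' hm'
  refine ⟨P.coeff 0, a, (d + 1) * (N + 1), by positivity, ?_⟩
  rw [pow_zero, mul_one] at he
  rw [map_mul, map_pow, show algebraMap A K (1 - f * P.coeff 0) = g * h from hgh.symm, mul_pow, he, ha,
    Algebra.smul_def, map_pow, pow_succ']
  ring

/-- A finitely generated algebra of dimension at most one is integral over the polynomials in one element. -/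
theorem exists_integral_generator (k : Type u) [Field k] (R : Type u) [CommRing R] [Algebra k R]
    [Algebra.FiniteType k R] (hd : ringKrullDim R ≤ 1) :
    ∃ g : R, (aeval g : k[X] →ₐ[k] R).toRingHom.IsIntegral := by
  rcases subsingleton_or_nontrivial R with hR | hR
  · exact ⟨0, fun x => ⟨Polynomial.X, monic_X, Subsingleton.elim _ _⟩⟩
  obtain ⟨s, φ, hinj, hfin⟩ := exists_finite_inj_algHom_of_fg k R
  have hdim : ringKrullDim R = ringKrullDim (MvPolynomial (Fin s) k) := by
    algebraize [φ.toRingHom]
    haveI : Module.Finite (MvPolynomial (Fin s) k) R := hfin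
    exact Dim.ringKrullDim_eq_of_isIntegral hinj
  rw [hdim, MvPolynomial.ringKrullDim_of_isNoetherianRing, ringKrullDim_eq_zero_of_field, zero_add,
    Nat.card_fin] at hd
  have hs : s ≤ 1 := by exact_mod_cast hd
  let g : R := if h : 0 < s then φ (MvPolynomial.X ⟨0, h⟩) else 0
  refine ⟨g, fun y => ?_⟩
  let θ : MvPolynomial (Fin s) k →ₐ[k] k[X] := MvPolynomial.aeval fun _ => Polynomial.X
  have hθ : ((aeval g : k[X] →ₐ[k] R).toRingHom).comp θ.toRingHom = φ.toRingHom := by
    refine congrArg AlgHom.toRingHom (show (aeval g).comp θ = φ from MvPolynomial.algHom_ext fun i => ?_)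
    have h0 : 0 < s := i.pos
    obtain rfl : i = ⟨0, h0⟩ := Fin.ext (by have := i.2; omega)
    simp [θ, g, h0]
  exact (RingHom.IsIntegral.tower_top θ.toRingHom _ (hθ ▸ hfin.to_isIntegral)) y

end Algebra

section Geometry

/-- On a separated scheme, functions on an intersection of affines are generated by functions on the pieces. -/
theorem closure_res_inf_eq_top {X : Scheme.{u}} {R : CommRingCat.{u}} (q : X ⟶ Spec R) [IsSeparated q]
    {U V : X.Opens} (hU : IsAffineOpen U) (hV : IsAffineOpen V) :
    Subring.closure (Set.range (X.presheaf.map (homOfLE (inf_le_left : U ⊓ V ≤ U)).op).hom ∪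
      Set.range (X.presheaf.map (homOfLE (inf_le_right : U ⊓ V ≤ V)).op).hom) = ⊤ := by
  haveI : IsSeparated (q ≫ terminal.from _) := inferInstance
  haveI : IsAffineHom (pullback.diagonal (terminal.from X)) := by
    rw [← terminal.comp_from q]; infer_instance
  have hW := hU.inf hV
  let rU := X.presheaf.map (homOfLE (inf_le_left : U ⊓ V ≤ U)).op
  let rV := X.presheaf.map (homOfLE (inf_le_right : U ⊓ V ≤ V)).op
  let B := Subring.closure (Set.range rU.hom ∪ Set.range rV.hom)
  let iU : Γ(X, U) ⟶ CommRingCat.of B := CommRingCat.ofHom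
    (rU.hom.codRestrict B fun a => Subring.subset_closure (Or.inl ⟨a, rfl⟩))
  let iV : Γ(X, V) ⟶ CommRingCat.of B := CommRingCat.ofHom
    (rV.hom.codRestrict B fun a => Subring.subset_closure (Or.inr ⟨a, rfl⟩))
  let sub : CommRingCat.of B ⟶ Γ(X, U ⊓ V) := CommRingCat.ofHom B.subtype
  have hsU : iU ≫ sub = rU := rfl
  have hsV : iV ≫ sub = rV := rfl
  have heU : Spec.map rU ≫ hU.fromSpec = hW.fromSpec := hU.map_fromSpec hW (homOfLE inf_le_left).op
  have heV : Spec.map rV ≫ hV.fromSpec = hW.fromSpec := hV.map_fromSpec hW (homOfLE inf_le_right).op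
  obtain ⟨φU, hφU⟩ := Spec.map_surjective (hU.fromSpec ≫ q)
  obtain ⟨φV, hφV⟩ := Spec.map_surjective (hV.fromSpec ≫ q)
  have hK : φU ≫ rU = φV ≫ rV := by
    apply Spec.map_injective
    rw [Spec.map_comp, Spec.map_comp, hφU, hφV, reassoc_of% heU, reassoc_of% heV]
  have hB : φU ≫ iU = φV ≫ iV := by
    ext x
    exact congrArg (fun ψ => ψ.hom x) hK
  haveI : IsOpenImmersion (Spec.map rU ≫ hU.fromSpec) := by rw [heU]; infer_instance
  haveI : IsOpenImmersion (Spec.map rU) := IsOpenImmersion.of_comp _ hU.fromSpec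
  have pb : IsPullback (Spec.map rU) (Spec.map rV) hU.fromSpec hV.fromSpec := by
    refine (IsOpenImmersion.isPullback (Spec.map rV) (Spec.map rU) hV.fromSpec hU.fromSpec
      (heU.trans heV.symm) (TopologicalSpace.Opens.ext (Eq.symm ?_))).flip
    ext z
    constructor
    · rintro ⟨w, rfl⟩
      show hU.fromSpec (Spec.map rU w) ∈ Set.range hV.fromSpec
      exact ⟨Spec.map rV w, by rw [← Scheme.Hom.comp_apply, ← Scheme.Hom.comp_apply, heU, heV]⟩
    · rintro ⟨y, hy⟩
      have h1 : hU.fromSpec z ∈ (U ⊓ V : X.Opens) :=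
        ⟨(hU.range_fromSpec).le ⟨z, rfl⟩, (hV.range_fromSpec).le ⟨y, hy⟩⟩
      obtain ⟨w, hw⟩ := (hW.range_fromSpec).ge h1
      refine ⟨w, hU.fromSpec.isOpenEmbedding.injective ?_⟩
      rw [← Scheme.Hom.comp_apply, heU, hw]
  let m := pb.isoPullback.hom ≫ pullback.mapDesc hU.fromSpec hV.fromSpec q
  let h : Spec (CommRingCat.of B) ⟶ pullback (hU.fromSpec ≫ q) (hV.fromSpec ≫ q) :=
    pullback.lift (Spec.map iU) (Spec.map iV)
      (by rw [← hφU, ← hφV, ← Spec.map_comp, ← Spec.map_comp, hB])
  have hmh : Spec.map sub ≫ h = m := by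
    refine pullback.hom_ext ?_ ?_
    · simp only [h, m, Category.assoc, pullback.lift_fst]
      simp [← Spec.map_comp, hsU]
    · simp only [h, m, Category.assoc, pullback.lift_snd]
      simp [← Spec.map_comp, hsV]
  haveI : IsClosedImmersion (Spec.map sub ≫ h) := by rw [hmh]; infer_instance
  haveI : IsClosedImmersion (Spec.map sub) := IsClosedImmersion.of_comp _ h
  have hsurj : Function.Surjective sub.hom := by
    have h1 : Function.Surjective (Spec.map sub).appTop :=
      (IsClosedImmersion.isAffine_surjective_of_isAffine (f := Spec.map sub)).2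
    have h2 : sub = (Scheme.ΓSpecIso (CommRingCat.of B)).inv ≫ (Spec.map sub).appTop ≫
        (Scheme.ΓSpecIso Γ(X, U ⊓ V)).hom := by
      rw [Scheme.ΓSpecIso_naturality, Iso.inv_hom_id_assoc]
    rw [h2]
    exact (ConcreteCategory.bijective_of_isIso (Scheme.ΓSpecIso Γ(X, U ⊓ V)).hom).2.comp
      (h1.comp (ConcreteCategory.bijective_of_isIso (Scheme.ΓSpecIso (CommRingCat.of B)).inv).2)
  refine eq_top_iff.2 fun x _ => ?_
  obtain ⟨y, rfl⟩ := hsurj x
  exact y.2

end Geometry

end GrothLib.CurveModel
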