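import Groth.Agent.Lib.CurveModel.Pencil
import Groth.Agent.Lib.CurveModel.PoleFunction
import Groth.Agent.Lib.Euler.AmpleExists
import Mathlib.Topology.KrullDimension

/-!
# A separated scheme of finite type and dimension at most one carries an ample invertible module
-/

set_option linter.style.haveILetI false
set_option backward.isDefEq.respectTransparency false

universe u

open CategoryTheory CategoryTheory.Limits AlgebraicGeometry TopologicalSpace Opposite
open GrothLib.Ample (Cocycle Equations res)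

noncomputable section

namespace GrothLib.CurveModel

theorem res_eq_map {X : Scheme.{u}} {V W : X.Opens} (h : W ≤ V) (a : Γ(X, V)) :
    res h a = (X.presheaf.map (homOfLE h).op).hom a := rfl

/-- Every point is a specialisation of a generic point which is maximal. -/
theorem exists_genericPoints_specializes {Y : Type*} [TopologicalSpace Y] [NoetherianSpace Y] [QuasiSober Y]
    [T0Space Y] (y : Y) : ∃ η ∈ genericPoints Y, η ⤳ y := by
  let η := genericPoints.ofComponent ⟨_, irreducibleComponent_mem_irreducibleComponents y⟩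
  exact ⟨η.1, η.2, (genericPoints.isGenericPoint_ofComponent _).specializes mem_irreducibleComponent⟩

variable {X : Scheme.{u}} (k : Type u) [Field k] [X.Over (Spec (CommRingCat.of k))] [IsNoetherian X]

omit [AlgebraicGeometry.IsNoetherian X] in
theorem eq_of_specializes_genericPoint {x η : X} (hη : η ∈ genericPoints (X : Type u)) (h : x ⤳ η) : x = η := by
  have h1 : closure ({η} : Set X) ≤ closure {x} := specializes_iff_closure_subset.1 h
  have h2 : closure ({η} : Set X) = closure {x} :=
    le_antisymm h1 (hη.2 isIrreducible_singleton.closure h1)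
  exact (Inseparable.eq (inseparable_iff_closure_eq.2 h2)).symm

/-- An affine open inside a given open containing all generic points. -/
theorem exists_affine_generic_le (O : X.Opens) (hO : genericPoints (X : Type u) ⊆ O) :
    ∃ V : X.Opens, IsAffineOpen V ∧ V ≤ O ∧ genericPoints (X : Type u) ⊆ V := by
  haveI : NoetherianSpace (O : Scheme.{u}) := O.ι.isOpenEmbedding.isInducing.noetherianSpace
  obtain ⟨U, hU, hUg⟩ := Euler.exists_affine_containing_genericPoints (X := (O : Scheme.{u}))
  refine ⟨O.ι ''ᵁ U, hU.image_of_isOpenImmersion O.ι, ?_, fun η hη => ?_⟩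
  · exact (Scheme.Hom.image_le_opensRange O.ι U).trans (le_of_eq O.opensRange_ι)
  · obtain ⟨ζ, hζ, hspec⟩ := exists_genericPoints_specializes (Y := (O : Scheme.{u})) ⟨η, hO hη⟩
    have he : ζ.1 = η := eq_of_specializes_genericPoint hη (hspec.map continuous_subtype_val)
    exact ⟨⟨η, hO hη⟩, (Subtype.ext he : ζ = ⟨η, hO hη⟩) ▸ hUg hζ, rfl⟩

/-- The structure map on the functions of an open. -/
def φk (U : X.Opens) : CommRingCat.of k ⟶ Γ(X, U) :=
  (Scheme.ΓSpecIso (CommRingCat.of k)).inv ≫ (X ↘ Spec (CommRingCat.of k)).appLE ⊤ U le_top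

theorem φk_res {U W : X.Opens} (h : W ≤ U) (a : k) :
    res h ((φk k U).hom a) = (φk k (X := X) W).hom a := by
  rw [res_eq_map]
  show ((φk k U) ≫ X.presheaf.map (homOfLE h).op).hom a = _
  rw [φk, Category.assoc, Scheme.Hom.appLE_map]
  rfl

variable [IsSeparated (X ↘ Spec (CommRingCat.of k))] [LocallyOfFiniteType (X ↘ Spec (CommRingCat.of k))]

include k in
/-- Near a missing point a power of the inverse of the generator is regular and vanishes there. -/
theorem exists_local_inverse {U V : X.Opens} (hU : IsAffineOpen U) (hV : IsAffineOpen V) (f : Γ(X, U))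
    (hf : X.basicOpen f = U ⊓ V) (g : Γ(X, V))
    (hg : (Polynomial.eval₂RingHom (φk k V).hom g).IsIntegral) {x : X} (hxU : x ∈ U) (hxV : x ∉ V) :
    ∃ (U' : X.Opens) (h : Γ(X, U')) (e : ℕ), x ∈ U' ∧ U' ≤ U ∧ 0 < e ∧ X.basicOpen h ≤ V ∧
      res (inf_le_right : U' ⊓ V ≤ V) g ^ e * res (inf_le_left : U' ⊓ V ≤ U') h = 1 := by
  let K := Γ(X, U ⊓ V)
  let rU : Γ(X, U) →+* K := res (inf_le_left : U ⊓ V ≤ U)
  let rV : Γ(X, V) →+* K := res (inf_le_right : U ⊓ V ≤ V)
  letI : Algebra Γ(X, U) K := rU.toAlgebra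
  haveI : IsLocalization.Away f K := hU.isLocalization_of_eq_basicOpen f (homOfLE inf_le_left) hf.symm
  have hfu : IsUnit (rU f) := IsLocalization.Away.algebraMap_isUnit f
  let y : K := ↑hfu.unit⁻¹
  let C := Algebra.adjoin Γ(X, U) {rV g}
  let θ : Polynomial k →+* C := Polynomial.eval₂RingHom
    ((algebraMap Γ(X, U) C).comp (φk k U).hom) ⟨rV g, Algebra.subset_adjoin rfl⟩
  have hθ : (algebraMap C K).comp θ = rV.comp (Polynomial.eval₂RingHom (φk k V).hom g) := by
    refine Polynomial.ringHom_ext (fun a => ?_) ?_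
    · simp only [θ, RingHom.comp_apply, Polynomial.coe_eval₂RingHom, Polynomial.eval₂_C]
      show rU ((φk k U).hom a) = rV ((φk k V).hom a)
      exact (φk_res k _ a).trans (φk_res k _ a).symm
    · simp only [θ, RingHom.comp_apply, Polynomial.coe_eval₂RingHom, Polynomial.eval₂_X]
      rfl
  have hint : IsIntegral C y := by
    have h1 : y ∈ (⊤ : Subring K) := trivial
    rw [← closure_res_inf_eq_top (X ↘ Spec (CommRingCat.of k)) hU hV] at h1
    refine (Subring.closure_le (t := (integralClosure C K).toSubring)).2 ?_ h1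
    rintro _ (⟨a, rfl⟩ | ⟨v, rfl⟩)
    · exact isIntegral_algebraMap (R := C) (A := K) (x := algebraMap Γ(X, U) C a)
    · obtain ⟨p, hp, hpv⟩ := hg v
      refine ⟨p.map θ, hp.map θ, ?_⟩
      rw [Polynomial.eval₂_map, hθ]
      show Polynomial.eval₂ _ (rV v) p = 0
      rw [← Polynomial.hom_eval₂, hpv, map_zero]
  have hy : rU f * y = 1 := hfu.mul_val_inv
  obtain ⟨b₀, a, e, he, hrel⟩ := exists_pow_inverse f (rV g) y hy
    (mem_of_isIntegral_inv C (Subalgebra.algebraMap_mem C f) hy hint)
  let b := 1 - f * b₀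
  have hle : X.basicOpen b ≤ U := X.basicOpen_le b
  have hxb : x ∈ X.basicOpen b := by
    rw [Scheme.mem_basicOpen _ _ _ hxU, map_sub, map_one]
    refine IsLocalRing.isUnit_one_sub_self_of_mem_nonunits _ fun hu => hxV ?_
    rw [map_mul] at hu
    have hxf : x ∈ X.basicOpen f := (Scheme.mem_basicOpen _ _ _ hxU).2 (isUnit_of_mul_isUnit_left hu)
    rw [hf] at hxf
    exact hxf.2
  have hbu : IsUnit (res hle b) := RingedSpace.isUnit_res_basicOpen X.toRingedSpace b
  let h : Γ(X, X.basicOpen b) := res hle f * (res hle a * (↑hbu.unit⁻¹) ^ e)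
  refine ⟨X.basicOpen b, h, e, hxb, hle, he, ?_, ?_⟩
  · rw [Scheme.basicOpen_mul, Scheme.basicOpen_res]
    exact (inf_le_left.trans inf_le_right).trans (hf.le.trans inf_le_right)
  · have hW : X.basicOpen b ⊓ V ≤ U ⊓ V := inf_le_inf_right _ hle
    have h1 := congrArg (res hW) hrel
    have h2 : ∀ z : Γ(X, U), res hW (algebraMap Γ(X, U) K z) =
        res (inf_le_left : X.basicOpen b ⊓ V ≤ X.basicOpen b) (res hle z) := fun z =>
      (Ample.res_res _ _ z).trans (Ample.res_res _ _ z).symm
    rw [map_mul, map_pow, h2, h2, map_mul, map_pow] at h1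
    have h4 : res hW (rV g) = res (inf_le_right : X.basicOpen b ⊓ V ≤ V) g := Ample.res_res _ _ g
    rw [h4] at h1
    simp only [h, map_mul, map_pow]
    have h3 : res (inf_le_left : X.basicOpen b ⊓ V ≤ X.basicOpen b) (res hle b) *
        res (inf_le_left : X.basicOpen b ⊓ V ≤ X.basicOpen b) (↑hbu.unit⁻¹) = 1 := by
      rw [← map_mul, hbu.mul_val_inv, map_one]
    rw [map_mul] at h1
    calc _ = (res (inf_le_right : X.basicOpen b ⊓ V ≤ V) g ^ e *
          (res (inf_le_left : X.basicOpen b ⊓ V ≤ X.basicOpen b) (res hle f) *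
            res (inf_le_left : X.basicOpen b ⊓ V ≤ X.basicOpen b) (res hle a))) *
          res (inf_le_left : X.basicOpen b ⊓ V ≤ X.basicOpen b) (↑hbu.unit⁻¹) ^ e := by ring
      _ = _ := by rw [h1, map_pow, ← mul_pow, h3, one_pow]

include k in
/-- A separated scheme of finite type and dimension at most one has a pencil: a cocycle with two sections as in
`isAmp_of_pencil`. -/
theorem exists_pencil (hd : topologicalKrullDim X ≤ 1) :
    ∃ (c : Cocycle X) (s t : c.sect 1 ⊤),
      (∀ y : X, ¬ IsClosed ({y} : Set X) → y ∈ c.locus s ∧ ∃ x, y ⤳ x ∧ x ∉ c.locus s) ∧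
        c.locus s ⊔ c.locus t = ⊤ := by
  classical
  have hgen : ∀ y : X, ¬ IsClosed ({y} : Set X) → y ∈ genericPoints (X : Type u) := fun y hy => by
    by_contra hg
    exact hy (Euler.isClosed_singleton_of_notMem_genericPoints hd hg)
  have hpick : ∀ y : {y : X | ¬ IsClosed ({y} : Set X)}, ∃ x, y.1 ⤳ x ∧ x ∉ genericPoints (X : Type u) := by
    rintro ⟨y, hy⟩
    obtain ⟨x, hx, hxy⟩ : ∃ x ∈ closure ({y} : Set X), x ≠ y := by
      by_contra! h
      exact hy (closure_subset_iff_isClosed.1 fun x hx => h x hx)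
    exact ⟨x, specializes_iff_mem_closure.2 hx,
      fun hxg => hxy (eq_of_specializes_genericPoint hxg (specializes_iff_mem_closure.2 hx)).symm⟩
  choose x hyx hxg using hpick
  haveI : Finite {y : X | ¬ IsClosed ({y} : Set X)} :=
    ((genericPoints.finite NoetherianSpace.finite_irreducibleComponents).subset fun y hy => hgen y hy).to_subtype
  have hS₀ : IsClosed (Set.range x) := by
    rw [← Set.biUnion_of_singleton (Set.range x)]
    refine (Set.finite_range x).isClosed_biUnion ?_
    rintro _ ⟨y, rfl⟩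
    exact Euler.isClosed_singleton_of_notMem_genericPoints hd (hxg y)
  obtain ⟨V, hV, hVO, hVg⟩ := exists_affine_generic_le ⟨(Set.range x)ᶜ, hS₀.isOpen_compl⟩
    (fun η hη => by rintro ⟨y, rfl⟩; exact hxg y hη)
  let S : Set X := (V : Set X)ᶜ
  have hSng : ∀ z ∈ S, z ∉ genericPoints (X : Type u) := fun z hz h => hz (hVg h)
  have hScl : ∀ z ∈ S, IsClosed ({z} : Set X) := fun z hz =>
    Euler.isClosed_singleton_of_notMem_genericPoints hd (hSng z hz)
  have hSfin : S.Finite := Euler.finite_of_closed_points V.2.isClosed_compl hScl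
  haveI := hSfin.to_subtype
  letI : Algebra k Γ(X, V) := (φk k V).hom.toAlgebra
  haveI : Algebra.FiniteType k Γ(X, V) := by
    refine RingHom.FiniteType.comp
      ((X ↘ Spec (CommRingCat.of k)).finiteType_appLE (isAffineOpen_top _) hV le_top) ?_
    exact RingHom.FiniteType.of_surjective _
      (ConcreteCategory.bijective_of_isIso (Scheme.ΓSpecIso (CommRingCat.of k)).inv).2
  have hdV : ringKrullDim Γ(X, V) ≤ 1 := by
    rw [← PrimeSpectrum.topologicalKrullDim_eq_ringKrullDim]
    refine (le_of_eq ?_).trans (V.2.isOpenEmbedding_subtypeVal.isInducing.topologicalKrullDim_le.trans hd)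
    exact (IsHomeomorph.topologicalKrullDim_eq _ hV.isoSpec.inv.homeomorph.isHomeomorph)
  obtain ⟨g, hg⟩ := exists_integral_generator k Γ(X, V) hdV
  have hg' : (Polynomial.eval₂RingHom (φk k V).hom g).IsIntegral := hg
  have hother : ∀ z : S, IsClosed (S \ {z.1}) := fun z => by
    rw [← Set.biUnion_of_singleton (S \ {z.1})]
    exact (hSfin.subset Set.diff_subset).isClosed_biUnion fun y hy => hScl y hy.1
  choose U f hxU hU hUO hf using fun z : S => Euler.exists_equation hd (hScl z z.2) (hSng z z.2)
    (O := ⟨(S \ {z.1})ᶜ, (hother z).isOpen_compl⟩) (fun h => h.2 rfl)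
  have hsub : ∀ (z : S) y, y ∈ U z → y ∉ V → y = z := fun z y hy hyV => not_not.1 fun h => hUO z hy ⟨hyV, h⟩
  have hfV : ∀ z : S, X.basicOpen (f z) = U z ⊓ V := fun z => by
    refine Opens.ext ((hf z).trans (Set.ext fun y => ⟨fun hy => ⟨hy.1, ?_⟩, fun hy => ⟨hy.1, ?_⟩⟩))
    · by_contra h; exact hy.2 (hsub z y hy.1 h)
    · exact fun h => z.2 (Set.mem_singleton_iff.1 h ▸ hy.2)
  choose U' h e hxU' hU'le he hhV hrel using fun z : S =>
    exists_local_inverse k (hU z) hV (f z) (hfV z) g hg' (hxU z) z.2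
  haveI : Fintype S := Fintype.ofFinite S
  let N := ∏ z : S, e z
  have hN : 0 < N := Finset.prod_pos fun z _ => he z
  choose M hM using fun z : S => (Finset.dvd_prod_of_mem e (Finset.mem_univ z) : e z ∣ N)
  have hMpos : ∀ z, 0 < M z := fun z => Nat.pos_of_ne_zero fun h0 => by
    have := hM z; rw [h0, Nat.mul_zero] at this; exact hN.ne' this
  have hrelN : ∀ z : S, res (inf_le_right : U' z ⊓ V ≤ V) (g ^ N) *
      res (inf_le_left : U' z ⊓ V ≤ U' z) (h z ^ M z) = 1 := fun z => by
    have hNz : N = e z * M z := hM z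
    rw [hNz, pow_mul, map_pow, map_pow, map_pow, ← mul_pow, hrel z, one_pow]
  let E : Equations X :=
    { ι := Option S
      D := fun o => o.elim V U'
      f := fun o => Option.rec (motive := fun o : Option S => Γ(X, (o.elim V U' : X.Opens))) 1 (fun z => h z ^ M z) o
      V := V
      cover := eq_top_iff.2 fun y _ => by
        by_cases hy : y ∈ V
        · exact Opens.mem_iSup.2 ⟨none, hy⟩
        · exact Opens.mem_iSup.2 ⟨some ⟨y, hy⟩, hxU' ⟨y, hy⟩⟩
      disjoint := by
        rintro (_ | z) (_ | w) hne y ⟨h1, h2⟩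
        · exact h1
        · exact h1
        · exact h2
        · by_contra hyV
          exact hne (congrArg some (Subtype.ext
            ((hsub z y (hU'le z h1) hyV).symm.trans (hsub w y (hU'le w h2) hyV))))
      basicOpen_eq := by
        rintro (_ | z)
        · exact (Scheme.basicOpen_of_isUnit X isUnit_one).trans (inf_idem V).symm
        · refine le_antisymm (le_inf (X.basicOpen_le _) ?_) ?_
          · refine le_trans (le_of_eq ?_) (hhV z)
            exact X.basicOpen_pow (h z) (hMpos z)
          · have hu : IsUnit (res (inf_le_left : U' z ⊓ V ≤ U' z) (h z ^ M z)) :=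
              IsUnit.of_mul_eq_one _ ((mul_comm _ _).trans (hrelN z))
            intro y hy
            have := (Scheme.basicOpen_of_isUnit X hu).ge hy
            rw [Scheme.basicOpen_res] at this
            exact this.2 }
  let a : ∀ o : Option S, Γ(X, E.D o) := fun o =>
    Option.rec (motive := fun o : Option S => Γ(X, E.D o)) (g ^ N) (fun _ => 1) o
  have ha : ∀ (o : Option S) (W : X.Opens) (hW : W ≤ E.D o) (hWV : W ≤ V),
      res hW (a o) = res hW (E.f o) * res hWV (g ^ N) := by
    rintro (_ | z) W hW hWV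
    · show res hW (g ^ N) = res hW (1 : Γ(X, V)) * _
      rw [map_one, one_mul]
      rfl
    · show res hW (1 : Γ(X, U' z)) = res hW (h z ^ M z) * _
      have hW' : W ≤ U' z := hW
      have h1 := congrArg (res (le_inf hW' hWV)) (hrelN z)
      rw [map_mul, Ample.res_res, Ample.res_res, map_one] at h1
      refine (map_one (res hW')).trans ?_
      exact ((mul_comm _ _).trans h1).symm
  let t : E.cocycle.sect 1 ⊤ :=
    ⟨fun o => res inf_le_right (a o), fun i j W hi hj => by
      rw [Ample.res_res, Ample.res_res, pow_one]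
      by_cases hij : i = j
      · subst hij
        rw [E.cocycle.G_self, one_mul]
      · have hWV : W ≤ V := (le_inf (hi.trans inf_le_right) (hj.trans inf_le_right)).trans (E.disjoint i j hij)
        refine (ha i W _ hWV).trans (Eq.trans ?_ (congrArg (E.cocycle.G i j _ _ * ·) (ha j W _ hWV)).symm)
        refine Eq.trans ?_ (mul_assoc _ _ _)
        exact congrArg (· * _) (E.res_g_mul i j (hi.trans inf_le_right) (hj.trans inf_le_right)).symm⟩
  refine ⟨E.cocycle, E.section₁, t, fun y hy => ?_, ?_⟩
  · rw [E.locus_section₁]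
    exact ⟨hVg (hgen y hy), x ⟨y, hy⟩, hyx ⟨y, hy⟩, fun h => hVO h ⟨_, rfl⟩⟩
  · rw [E.locus_section₁, eq_top_iff]
    intro y _
    by_cases hy : y ∈ V
    · exact Or.inl hy
    · refine Or.inr (Opens.mem_iSup.2 ⟨some ⟨y, hy⟩, ?_⟩)
      show y ∈ X.basicOpen (res (inf_le_right : ⊤ ⊓ U' ⟨y, hy⟩ ≤ U' ⟨y, hy⟩) (1 : Γ(X, U' ⟨y, hy⟩)))
      rw [Scheme.basicOpen_res, Scheme.basicOpen_of_isUnit X isUnit_one]
      exact ⟨⟨trivial, hxU' _⟩, hxU' _⟩

include k in
/-- A separated scheme of finite type and dimension at most one has an ample invertible module. -/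
theorem exists_ample (hd : topologicalKrullDim X ≤ 1) : ∃ c : Cocycle X, CohB1.IsAmple (c.twist 1) := by
  obtain ⟨c, s, t, h, hcov⟩ := exists_pencil k hd
  exact ⟨c, (c.isAmple_iff (Iso.refl _)).2 ⟨inferInstance, isAmp_of_pencil k hd c (n := 0) s t h hcov⟩⟩

end GrothLib.CurveModel
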