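import Groth.Agent.Lib.CurveModel.AmpleOfDimOne
import Groth.Agent.Lib.Misc6.LiftClosed
import Groth.Agent.Lib.Dim.Scheme
import Mathlib.Order.KrullDimension

/-!
# Projective completion of a scheme of dimension at most one, and when such a scheme is affine
-/

set_option linter.style.haveILetI false
set_option backward.isDefEq.respectTransparency false

universe u

open CategoryTheory CategoryTheory.Limits AlgebraicGeometry TopologicalSpace Opposite
open GrothLib.Ample (Cocycle res)

noncomputable section

namespace GrothLib.CurveModel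

theorem isNoetherian_of_finiteType {X : Scheme.{u}} (k : Type u) [Field k] [X.Over (Spec (CommRingCat.of k))]
    [LocallyOfFiniteType (X ↘ Spec (CommRingCat.of k))] [QuasiCompact (X ↘ Spec (CommRingCat.of k))] :
    IsNoetherian X :=
  haveI := LocallyOfFiniteType.isLocallyNoetherian (X ↘ Spec (CommRingCat.of k))
  haveI : CompactSpace X := QuasiCompact.compactSpace_of_compactSpace (X ↘ Spec (CommRingCat.of k))
  ⟨⟩

/-- Dimension at most one, from the non-generic points being closed. -/
theorem dim_le_one_of_isClosed {Y : Scheme.{u}}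
    (h : ∀ y : Y, y ∉ genericPoints (Y : Type u) → IsClosed ({y} : Set Y)) : topologicalKrullDim Y ≤ 1 := by
  refine (Order.krullDim_eq_of_orderIso (irreducibleSetEquivPoints (α := ↥Y))).le.trans ?_
  refine Order.krullDim_le_one_iff.2 fun y => ?_
  by_cases hy : y ∈ genericPoints (Y : Type u)
  · exact Or.inr fun z hz => le_of_eq (eq_of_specializes_genericPoint hy hz)
  · exact Or.inl fun z hz => le_of_eq (Set.mem_singleton_iff.1 ((hz : y ⤳ z).mem_closed (h y hy) rfl)).symm

theorem exists_two_of_not_isClosed {Y : Type*} [TopologicalSpace Y] {y : Y} (hy : ¬ IsClosed ({y} : Set Y)) :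
    ∃ z, z ≠ y ∧ y ⤳ z := by
  by_contra! h
  refine hy (closure_subset_iff_isClosed.1 fun z hz => ?_)
  by_contra hne
  exact h z hne (specializes_iff_mem_closure.2 hz)

/-- A one-dimensional irreducible closed set has a non-closed generic point. -/
theorem not_isClosed_of_dim {Y : Type*} [TopologicalSpace Y] {C : Set Y} {η : Y} (hη : IsGenericPoint η C)
    (hC1 : topologicalKrullDim C = 1) : ¬ IsClosed ({η} : Set Y) := by
  intro hc
  have hCs : C = {η} := by rw [← hη.def, hc.closure_eq]
  haveI : Subsingleton C := ⟨fun a b =>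
    Subtype.ext ((Set.mem_singleton_iff.1 (hCs.le a.2)).trans (Set.mem_singleton_iff.1 (hCs.le b.2)).symm)⟩
  haveI : Subsingleton (IrreducibleCloseds C) := ⟨fun s t => by
    obtain ⟨a, ha⟩ := s.isIrreducible.nonempty
    obtain ⟨b, hb⟩ := t.isIrreducible.nonempty
    exact IrreducibleCloseds.ext (Set.ext fun z =>
      ⟨fun _ => Subsingleton.elim b z ▸ hb, fun _ => Subsingleton.elim a z ▸ ha⟩)⟩
  have h0 : topologicalKrullDim C ≤ 0 := Order.krullDim_nonpos_of_subsingleton
  exact absurd (hC1.symm.trans_le h0) (by norm_num)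

/-- The closure of a non-closed point in dimension at most one has dimension one. -/
theorem dim_closure_eq_one {Y : Type*} [TopologicalSpace Y] [QuasiSober Y] [T0Space Y]
    (hd : topologicalKrullDim Y ≤ 1) {y : Y} (hy : ¬ IsClosed ({y} : Set Y)) :
    topologicalKrullDim (closure ({y} : Set Y)) = 1 := by
  refine le_antisymm (Topology.IsInducing.subtypeVal.topologicalKrullDim_le.trans hd) ?_
  obtain ⟨z, hzy, hyz⟩ := exists_two_of_not_isClosed hy
  let y' : closure ({y} : Set Y) := ⟨y, subset_closure rfl⟩
  let z' : closure ({y} : Set Y) := ⟨z, specializes_iff_mem_closure.1 hyz⟩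
  let a : IrreducibleCloseds (closure ({y} : Set Y)) := ⟨closure {z'}, isIrreducible_singleton.closure, isClosed_closure⟩
  let b : IrreducibleCloseds (closure ({y} : Set Y)) := ⟨closure {y'}, isIrreducible_singleton.closure, isClosed_closure⟩
  have hyz' : y' ⤳ z' := Topology.IsInducing.subtypeVal.specializes_iff.1 hyz
  have hab : a < b := lt_of_le_not_ge
    (show closure ({z'} : Set _) ≤ closure {y'} from closure_minimal
      (Set.singleton_subset_iff.2 (specializes_iff_mem_closure.1 hyz')) isClosed_closure)
    fun hle => hzy (congrArg Subtype.val (Specializes.antisymm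
      (specializes_iff_mem_closure.2 (hle (subset_closure rfl : y' ∈ closure ({y'} : Set _)))) hyz').eq)
  exact le_iSup_of_le (LTSeries.mk 1 ![a, b] fun i j hij => by
    fin_cases i <;> fin_cases j <;> first | exact hab | exact absurd hij (by decide)) (le_refl _)

variable {X : Scheme.{u}} (k : Type u) [Field k] [X.Over (Spec (CommRingCat.of k))] [IsNoetherian X]
  [IsSeparated (X ↘ Spec (CommRingCat.of k))] [LocallyOfFiniteType (X ↘ Spec (CommRingCat.of k))]

include k in
theorem exists_immersion_projSpace (hd : topologicalKrullDim X ≤ 1) :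
    ∃ (n : ℕ) (i : X ⟶ CohB1.ProjSpace n k), IsImmersion i ∧
      i ≫ CohB1.ProjSpace.toSpec n k = X ↘ Spec (CommRingCat.of k) := by
  obtain ⟨c, hA⟩ := exists_ample k hd
  obtain ⟨n, i, hi, hif⟩ := Ample.exists_immersion_of_isAmple (X ↘ Spec (CommRingCat.of k)) hA
  haveI := hi
  haveI := Ample.ProjMap.isClosedImmersion_toProjSpace n k
  refine ⟨n, i ≫ Ample.ProjMap.toProjSpace n k, inferInstance, ?_⟩
  rw [Category.assoc, Ample.ProjMap.toProjSpace_toSpec]
  exact hif

include k in
theorem exists_completion (hd : topologicalKrullDim X ≤ 1) :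
    ∃ (d : ℕ) (Y : Scheme.{u}) (c : Y ⟶ CohB1.ProjSpace d k) (j : X ⟶ Y), IsClosedImmersion c ∧ IsOpenImmersion j ∧
      j ≫ c ≫ CohB1.ProjSpace.toSpec d k = X ↘ (Spec (CommRingCat.of k)) ∧ Dense (Set.range j.base) ∧
      IsSchemeTheoreticallyDominant j ∧ IsNoetherian Y ∧
      (∀ y ∈ (Set.range j.base)ᶜ, y ∉ genericPoints (Y : Type u)) ∧ topologicalKrullDim Y ≤ 1 := by
  obtain ⟨n, i, hi, hiq⟩ := exists_immersion_projSpace k hd
  haveI := hi
  haveI := Chow.isProper_toSpec n k
  haveI : IsNoetherian (CohB1.ProjSpace n k) := by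
    haveI := LocallyOfFiniteType.isLocallyNoetherian (CohB1.ProjSpace.toSpec n k)
    haveI : CompactSpace (CohB1.ProjSpace n k) :=
      QuasiCompact.compactSpace_of_compactSpace (CohB1.ProjSpace.toSpec n k)
    exact ⟨⟩
  haveI : IsNoetherian i.image := by
    haveI := LocallyOfFiniteType.isLocallyNoetherian (i.imageι ≫ CohB1.ProjSpace.toSpec n k)
    haveI : CompactSpace i.image :=
      QuasiCompact.compactSpace_of_compactSpace (i.imageι ≫ CohB1.ProjSpace.toSpec n k)
    exact ⟨⟩
  haveI : QuasiCompact i := inferInstance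
  let j := i.toImage
  have hdense : Dense (Set.range j.base) := j.denseRange
  have hgen : genericPoints (i.image : Type u) ⊆ Set.range j.base := by
    intro η hη
    obtain ⟨Z, hZ, hηZ⟩ : ∃ Z, Z = closure ({η} : Set i.image) ∧ η ∈ Z := ⟨_, rfl, subset_closure rfl⟩
    haveI : Finite (genericPoints (i.image : Type u)) :=
      (genericPoints.finite NoetherianSpace.finite_irreducibleComponents).to_subtype
    let Ω : Set i.image := (⋃ η' ∈ (genericPoints (i.image : Type u) \ {η}), closure ({η'} : Set i.image))ᶜ
    have hΩo : IsOpen Ω := ((((genericPoints.finite (α := (i.image : Type u))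
      NoetherianSpace.finite_irreducibleComponents).subset Set.diff_subset)).isClosed_biUnion
        fun _ _ => isClosed_closure).isOpen_compl
    have hηΩ : η ∈ Ω := by
      intro hmem
      obtain ⟨η', ⟨-, hne⟩, h⟩ := Set.mem_iUnion₂.mp hmem
      exact hne (eq_of_specializes_genericPoint hη (specializes_iff_mem_closure.2 h))
    obtain ⟨w, hwΩ, x, rfl⟩ := hdense.inter_open_nonempty Ω hΩo ⟨η, hηΩ⟩
    obtain ⟨ζ, hζ, hζw⟩ := exists_genericPoints_specializes (Y := (i.image : Type u)) (j x)
    have he : ζ = η := by
      by_contra hne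
      exact hwΩ (Set.mem_iUnion₂.mpr ⟨ζ, ⟨hζ, hne⟩, specializes_iff_mem_closure.1 hζw⟩)
    exact he ▸ hζw.mem_open j.isOpenEmbedding.isOpen_range ⟨x, rfl⟩
  have hcl : ∀ y : i.image, y ∉ genericPoints (i.image : Type u) → IsClosed ({y} : Set i.image) := by
    intro y hy
    obtain ⟨η, hη, hηy⟩ := exists_genericPoints_specializes (Y := (i.image : Type u)) y
    let S : Closeds i.image := ⟨closure {η}, isClosed_closure⟩
    obtain ⟨m, hm, hmU⟩ := Dim.exists_nat_dim_irreducible (K := k) (i.imageι ≫ CohB1.ProjSpace.toSpec n k) S.2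
      (isIrreducible_singleton.closure : IsIrreducible (closure ({η} : Set i.image)))
    let R : i.image.Opens := j.opensRange
    have hSR : ((S : Set i.image) ∩ (R : Set i.image)).Nonempty := ⟨η, subset_closure rfl, hgen hη⟩
    have hS1 : topologicalKrullDim (S : Set i.image) ≤ 1 := by
      show topologicalKrullDim (closure ({η} : Set i.image)) ≤ 1
      rw [hm, ← hmU R hSR]
      refine (Topology.IsInducing.topologicalKrullDim_le
        (f := Set.inclusion (Set.inter_subset_right : (S : Set i.image) ∩ (R : Set i.image) ⊆ _))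
        (Topology.IsEmbedding.inclusion _).isInducing).trans ?_
      exact ((Dim.IsEmbedding.topologicalKrullDim_eq (f := (j : X → i.image)) j.isEmbedding
        (rfl : Set.range j = (R : Set i.image))).symm).le.trans hd
    let T := Scheme.IdealSheafData.vanishingIdeal S
    have hT : Set.range T.subschemeι = (S : Set i.image) := RedSub.range_subschemeι_vanishingIdeal _
    have hTd : topologicalKrullDim T.subscheme ≤ 1 :=
      (Dim.IsEmbedding.topologicalKrullDim_eq T.subschemeι.isEmbedding hT).le.trans hS1
    refine isClosed_of_closure_subset fun z hz => ?_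
    by_contra hzy
    have hyS : y ∈ (S : Set i.image) := specializes_iff_mem_closure.1 hηy
    obtain ⟨η', hη'⟩ := hT.ge (subset_closure rfl : η ∈ closure ({η} : Set i.image))
    obtain ⟨y', hy'⟩ := hT.ge hyS
    obtain ⟨z', hz'⟩ := hT.ge ((hηy.trans (specializes_iff_mem_closure.2 hz)) |> specializes_iff_mem_closure.1)
    have hlt : ∀ {a b : T.subscheme}, T.subschemeι b ⤳ T.subschemeι a → T.subschemeι a ≠ T.subschemeι b → a < b :=
      fun {a b} h hne => lt_of_le_not_ge (T.subschemeι.isEmbedding.isInducing.specializes_iff.1 h)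
        fun h' => hne (Specializes.antisymm ((h' : a ⤳ b).map T.subschemeι.continuous) h).eq
    refine Euler.not_lt_lt hTd (x := z') (y := y') (z := η') (hlt ?_ ?_) (hlt ?_ ?_)
    · rw [hz', hy']; exact specializes_iff_mem_closure.2 hz
    · rw [hz', hy']; exact hzy
    · rw [hy', hη']; exact hηy
    · rw [hy', hη']; exact fun h => hy (h ▸ hη)
  refine ⟨n, i.image, i.imageι, j, inferInstance, inferInstance, ?_, hdense,
    Misc6.isSchemeTheoreticallyDominant_toImage i, inferInstance, fun y hy h => hy (hgen h),
    dim_le_one_of_isClosed hcl⟩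
  rw [← Category.assoc, Scheme.Hom.toImage_imageι, hiq]

include k in
/-- If no one-dimensional component is proper then the scheme is affine. -/
theorem isAffine_of_no_proper_component (hd : topologicalKrullDim X ≤ 1)
    (h : ∀ (C : Set X) (hC : C ∈ irreducibleComponents (X : Type u)), topologicalKrullDim C = 1 →
      ¬ IsProper ((X.irreducibleComponentIdeal C hC).radical.subschemeι ≫ (X ↘ (Spec (CommRingCat.of k))))) :
    IsAffine X := by
  obtain ⟨n, Y, i, j, hi, hj, hij, -, -, hY, hBg, hdY⟩ := exists_completion k hd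
  haveI := hi
  haveI := hj
  haveI := hY
  haveI := Chow.isProper_toSpec n k
  letI : Y.Over (Spec (CommRingCat.of k)) := ⟨i ≫ CohB1.ProjSpace.toSpec n k⟩
  haveI : IsProper (Y ↘ Spec (CommRingCat.of k)) :=
    inferInstanceAs (IsProper (i ≫ CohB1.ProjSpace.toSpec n k))
  let B : Set Y := (Set.range j.base)ᶜ
  have hBcl : ∀ y ∈ B, IsClosed ({y} : Set Y) := fun y hy =>
    Euler.isClosed_singleton_of_notMem_genericPoints hdY (hBg y hy)
  have hBfin : B.Finite := Euler.finite_of_closed_points j.isOpenEmbedding.isOpen_range.isClosed_compl hBcl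
  have key : ∀ y : Y, ¬ IsClosed ({y} : Set Y) → y ∈ genericPoints (Y : Type u) ∧ ∃ x ∈ B, y ⤳ x := by
    intro y hy
    refine ⟨by_contra fun hg => hy (Euler.isClosed_singleton_of_notMem_genericPoints hdY hg), ?_⟩
    by_contra! hno
    have hsub : closure ({y} : Set Y) ⊆ Set.range j.base := fun z hz =>
      by_contra fun hzr => hno z hzr (specializes_iff_mem_closure.2 hz)
    obtain ⟨x, rfl⟩ := hsub (subset_closure rfl)
    have hx : ¬ IsClosed ({x} : Set X) := fun hxc => by
      obtain ⟨z, hzy, hyz⟩ := exists_two_of_not_isClosed hy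
      obtain ⟨x', rfl⟩ := hsub (specializes_iff_mem_closure.1 hyz)
      exact hzy (congrArg j (Set.mem_singleton_iff.1
        ((j.isEmbedding.isInducing.specializes_iff.1 hyz).mem_closed hxc rfl)))
    have hxg : x ∈ genericPoints (X : Type u) :=
      by_contra fun hg => hx (Euler.isClosed_singleton_of_notMem_genericPoints hd hg)
    refine h (closure {x}) hxg (dim_closure_eq_one hd hx) ?_
    let I := (X.irreducibleComponentIdeal (closure {x}) hxg).radical
    have hrange : Set.range I.subschemeι = closure {x} := by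
      rw [show I = Scheme.IdealSheafData.vanishingIdeal ⟨closure {x}, isClosed_closure⟩ from by
        show (X.irreducibleComponentIdeal (closure {x}) hxg).radical = _
        rw [← Scheme.IdealSheafData.vanishingIdeal_support]; rfl]
      exact RedSub.range_subschemeι_vanishingIdeal _
    haveI : IsClosedImmersion (I.subschemeι ≫ j) := by
      refine IsClosedImmersion.of_isPreimmersion _ ?_
      have himg : Set.range (I.subschemeι ≫ j) = closure ({j x} : Set Y) := by
        rw [show Set.range (I.subschemeι ≫ j) = j '' Set.range I.subschemeι from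
          (Set.range_comp j I.subschemeι), hrange]
        refine Set.Subset.antisymm ((image_closure_subset_closure_image j.continuous).trans
          (by rw [Set.image_singleton])) fun z hz => ?_
        obtain ⟨x', rfl⟩ := hsub hz
        exact ⟨x', specializes_iff_mem_closure.1
          (j.isEmbedding.isInducing.specializes_iff.1 (specializes_iff_mem_closure.2 hz)), rfl⟩
      rw [himg]
      exact isClosed_closure
    show IsProper (I.subschemeι ≫ X ↘ Spec (CommRingCat.of k))
    rw [show I.subschemeι ≫ X ↘ Spec (CommRingCat.of k) =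
      (I.subschemeι ≫ j) ≫ i ≫ CohB1.ProjSpace.toSpec n k by rw [Category.assoc, hij]]
    infer_instance
  obtain ⟨c, a, ha⟩ := Euler.exists_cocycle_section hdY B hBfin hBcl hBg
  have hnotB : ∀ y : Y, y ∈ genericPoints (Y : Type u) → y ∈ c.locus a := fun y hy => by
    have : y ∈ (Bᶜ : Set Y) := fun hyB => hBg y hyB hy
    rwa [← ha] at this
  have hA : CohB1.IsAmple (c.twist 1) := by
    refine Euler.isAmple_of_section k hdY c (n := 0) a hnotB fun C hC hC1 => ?_
    obtain ⟨η, hη⟩ := QuasiSober.sober hC.1 (isClosed_of_mem_irreducibleComponents C hC)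
    obtain ⟨-, x, hxB, hηx⟩ := key η (not_isClosed_of_dim hη hC1)
    refine ⟨x, hη.def ▸ specializes_iff_mem_closure.1 hηx, fun hxl => ?_⟩
    have : x ∈ (c.locus a : Set Y) := hxl
    rw [ha] at this
    exact this hxB
  obtain ⟨m, t, hBt, -, -⟩ := Ample.Cocycle.exists_affine_locus_finite c ((c.isAmple_iff (Iso.refl _)).1 hA).2 hBfin
    (U := ⊤) (fun _ _ => trivial)
  let s : c.sect (m + 1) ⊤ := c.sectCast (one_mul (m + 1)) (c.sectPow a (m + 1))
  have hs : (c.locus s : Set Y) = Bᶜ := by
    rw [← ha]
    refine congrArg (fun O : Y.Opens => (O : Set Y)) ?_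
    rw [c.locus_sectCast, c.locus_sectPow a (Nat.succ_pos m)]
  have hcov : c.locus s ⊔ c.locus t = ⊤ := eq_top_iff.2 fun y _ => by
    by_cases hy : y ∈ B
    · exact Or.inr (hBt hy)
    · exact Or.inl (hs.ge hy)
  obtain ⟨haff, -⟩ := isAffineOpen_of_pencil k inferInstance hdY c s t (fun y hy => by
    obtain ⟨hg, x, hxB, hyx⟩ := key y hy
    exact ⟨hs.ge (fun hyB => hBg y hyB hg), x, hyx, fun hxs => hs.le hxs hxB⟩) hcov
  have he : j.opensRange = c.locus s := TopologicalSpace.Opens.ext (by rw [hs]; exact (compl_compl _).symm)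
  haveI : IsAffine (j.opensRange : Scheme.{u}) := he ▸ haff
  exact .of_isIso j.isoOpensRange.hom

include k in
/-- A curve is affine or projective. -/
theorem affine_or_projective [IsIntegral X] (hdim : topologicalKrullDim X = 1) :
    IsAffine X ∨ ∃ (d : ℕ) (c : X ⟶ CohB1.ProjSpace d k), IsClosedImmersion c ∧
      c ≫ CohB1.ProjSpace.toSpec d k = X ↘ (Spec (CommRingCat.of k)) := by
  by_cases hp : IsProper (X ↘ Spec (CommRingCat.of k))
  · exact Or.inr (Euler.exists_closedImmersion_projSpace k hdim.le)
  · refine Or.inl (isAffine_of_no_proper_component k hdim.le fun C hC _ hprop => hp ?_)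
    have hCu : C = Set.univ := by
      rw [irreducibleComponents_eq_singleton] at hC
      exact hC
    let I := (X.irreducibleComponentIdeal C hC).radical
    haveI : Surjective I.subschemeι := ⟨fun x => by
      have hrange : Set.range I.subschemeι = C := by
        rw [show I = Scheme.IdealSheafData.vanishingIdeal ⟨C, isClosed_of_mem_irreducibleComponents C hC⟩ from by
          show (X.irreducibleComponentIdeal C hC).radical = _
          rw [← Scheme.IdealSheafData.vanishingIdeal_support]; rfl]
        exact RedSub.range_subschemeι_vanishingIdeal _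
      exact (hrange.trans hCu).ge (Set.mem_univ x)⟩
    haveI := isIso_of_isClosedImmersion_of_surjective I.subschemeι
    haveI := hprop
    rw [show X ↘ Spec (CommRingCat.of k) = inv I.subschemeι ≫ I.subschemeι ≫ X ↘ Spec (CommRingCat.of k) by simp]
    haveI : IsProper (I.subschemeι ≫ X ↘ Spec (CommRingCat.of k)) := hprop
    infer_instance

end GrothLib.CurveModel
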